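import Cfsg.Agent.CN.Odd

/-!
The classes of maximal nilpotent subgroups of a minimal simple CN-group of odd order.
-/

set_option autoImplicit false
set_option linter.unusedSectionVars false

universe u

namespace CfsgLib.CN

open Cfsg
open scoped Pointwise

variable {G : Type u} [Group G] [Finite G]

theorem map_conj_normalizer (H : Subgroup G) (g : G) :
    (Subgroup.normalizer (H : Set G)).map (MulAut.conj g).toMonoidHom =
      Subgroup.normalizer (H.map (MulAut.conj g).toMonoidHom : Set G) :=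
  Subgroup.map_equiv_normalizer_eq H (MulAut.conj g)

theorem fittingHallOf_normalizer (hG : IsMinSimpleOddOrder G) (hCN : IsCNGroup G) {H : Subgroup G}
    (hH : IsMaxNilpotent H) : fittingHallOf (Subgroup.normalizer (H : Set G)) = H := by
  obtain ⟨E, -, -, -, h⟩ := exists_complement_normalizer hG hCN hH
  exact h

/-- Every nilpotent subgroup is conjugate into the kernel of one of the representatives. -/
theorem exists_conj_le (hG : IsMinSimpleOddOrder G) (hCN : IsCNGroup G) {k : ℕ}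
    {Mrep : Fin k → Subgroup G}
    (hall : ∀ M : Subgroup G, IsCoatom M → ∃ i, ∃ g : G, M = (Mrep i).map (MulAut.conj g).toMonoidHom)
    {H : Subgroup G} (hH : IsMaxNilpotent H) :
    ∃ i, ∃ g : G, H.map (MulAut.conj g).toMonoidHom = fittingHallOf (Mrep i) := by
  obtain ⟨i, g, hi⟩ := hall _ (isCoatom_normalizer hG hCN hH)
  refine ⟨i, g⁻¹, ?_⟩
  have h : Mrep i = Subgroup.normalizer (H.map (MulAut.conj g⁻¹).toMonoidHom : Set G) := by
    rw [← map_conj_normalizer, hi, Subgroup.map_map]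
    convert (Subgroup.map_id _).symm
    ext x
    simp [mul_assoc]
  rw [h, fittingHallOf_normalizer hG hCN (hH.map_conj g⁻¹)]

theorem kernels_product (hG : IsMinSimpleOddOrder G) (hCN : IsCNGroup G) (k : ℕ)
    (Mrep : Fin k → Subgroup G) (hmax : ∀ i, IsCoatom (Mrep i))
    (hnc : ∀ i j, i ≠ j → ∀ g : G, Mrep j ≠ (Mrep i).map (MulAut.conj g).toMonoidHom)
    (hall : ∀ M : Subgroup G, IsCoatom M → ∃ i, ∃ g : G, M = (Mrep i).map (MulAut.conj g).toMonoidHom) :
    (∀ i j, i ≠ j → (Nat.card (fittingHallOf (Mrep i))).Coprime (Nat.card (fittingHallOf (Mrep j)))) ∧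
      ∏ i, Nat.card (fittingHallOf (Mrep i)) = Nat.card G ∧
      ∀ x : G, ∃ i, ∃ g : G, g * x * g⁻¹ ∈ fittingHallOf (Mrep i) := by
  choose H hH hM using fun i => maximal_eq_normalizer hG hCN (hmax i)
  have hF : ∀ i, fittingHallOf (Mrep i) = H i := fun i => by
    rw [hM i]; exact fittingHallOf_normalizer hG hCN (hH i)
  have hcop : ∀ i j, i ≠ j →
      (Nat.card (fittingHallOf (Mrep i))).Coprime (Nat.card (fittingHallOf (Mrep j))) := by
    intro i j hij
    rw [hF, hF]
    refine Nat.coprime_of_dvd fun p hp hpi hpj => ?_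
    have := Fact.mk hp
    obtain ⟨g, hg⟩ := isConj_of_shared_prime hCN (hH i) (hH j) hpi hpj
    exact hnc i j hij g (by rw [hM i, hM j, map_conj_normalizer, ← hg])
  refine ⟨hcop, Nat.dvd_antisymm ?_ ?_, fun x => ?_⟩
  · exact Fintype.prod_dvd_of_isRelPrime (fun i j hij => Nat.coprime_iff_isRelPrime.mp (hcop i j hij))
      fun i => Subgroup.card_subgroup_dvd_card _
  · refine (Nat.dvd_iff_prime_pow_dvd_dvd _ _).mpr fun p m hp hpm => ?_
    have := Fact.mk hp
    obtain ⟨P, hP⟩ := Sylow.exists_subgroup_card_pow_prime p hpm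
    obtain ⟨L, hL, hle⟩ := exists_maxNilpotent ((IsPGroup.of_card hP).isNilpotent)
    obtain ⟨i, g, hg⟩ := exists_conj_le hG hCN hall hL
    refine dvd_trans ?_ (Finset.dvd_prod_of_mem (fun i => Nat.card (fittingHallOf (Mrep i))) (Finset.mem_univ i))
    show p ^ m ∣ Nat.card (fittingHallOf (Mrep i))
    rw [← hg, Subgroup.card_map_of_injective (MulAut.conj g).injective, ← hP]
    exact Subgroup.card_dvd_of_le hle
  · have hnil : Group.IsNilpotent (Subgroup.zpowers x) := by
      let := IsCyclic.commGroup (α := Subgroup.zpowers x)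
      infer_instance
    obtain ⟨L, hL, hle⟩ := exists_maxNilpotent hnil
    obtain ⟨i, g, hg⟩ := exists_conj_le hG hCN hall hL
    exact ⟨i, g, hg ▸ ⟨x, hle (Subgroup.mem_zpowers x), rfl⟩⟩

theorem maximal_frobenius (hG : IsMinSimpleOddOrder G) (hCN : IsCNGroup G) {M : Subgroup G}
    (hM : IsCoatom M) :
    ∃ H E : Subgroup G, IsMaxNilpotent H ∧ M = Subgroup.normalizer (H : Set G) ∧ IsComplIn H E M ∧
      H ≠ ⊥ ∧ E ≠ ⊥ ∧ ∀ e ∈ E, e ≠ 1 → H ⊓ Subgroup.centralizer ({e} : Set G) = ⊥ := by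
  obtain ⟨H, hH, rfl⟩ := maximal_eq_normalizer hG hCN hM
  obtain ⟨E, hE, hE1, hfpf, -⟩ := exists_complement_normalizer hG hCN hH
  exact ⟨H, E, hH, rfl, hE, fun h => maxNilpotent_card_ne_one hG hH (Subgroup.card_eq_one.mpr h),
    hE1, hfpf⟩

end CfsgLib.CN
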